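import Mathlib

/-! # Semilinear injective endomorphisms and vanishing of cohomology of a cokernel -/

set_option autoImplicit false
universe u v w
open CategoryTheory CategoryTheory.Limits Abelian

namespace Groth.Agent.Lib.Helper2.FSplit

section LinAlg
variable {k V : Type*} [Field k] [AddCommGroup V] [Module k V] [Module.Finite k V]

/-- An injective additive endomorphism of a finite-dimensional vector space which is semilinear
with respect to a surjective map of scalars is surjective. -/
theorem surjective_of_injective_semilinear (σ : k → k) (hσ : Function.Surjective σ) (f : V →+ V)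
    (hf : Function.Injective f) (hc : ∀ (r : k) (v : V), f (r • v) = σ r • f v) :
    Function.Surjective f := by
  let W : Submodule k V :=
    { carrier := Set.range f
      add_mem' := by
        rintro _ _ ⟨a, rfl⟩ ⟨b, rfl⟩
        exact ⟨a + b, map_add f a b⟩
      zero_mem' := ⟨0, map_zero f⟩
      smul_mem' := by
        rintro r _ ⟨v, rfl⟩
        obtain ⟨r', rfl⟩ := hσ r
        exact ⟨r' • v, hc r' v⟩ }
  let j : V →+ W :=
    { toFun := fun v => ⟨f v, v, rfl⟩
      map_zero' := Subtype.ext (map_zero f)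
      map_add' := fun a b => Subtype.ext (map_add f a b) }
  have hj : Function.Injective j := by
    intro a b hab
    exact hf (congrArg Subtype.val hab)
  have hrank : Module.rank k V ≤ Module.rank k W :=
    rank_le_of_surjective_injective σ j hσ hj (fun r m => Subtype.ext (hc r m))
  have hfr : Module.finrank k V ≤ Module.finrank k W :=
    Cardinal.toNat_le_toNat hrank (Module.rank_lt_aleph0 k W)
  have hW : W = ⊤ :=
    Submodule.eq_top_of_finrank_eq (le_antisymm (Submodule.finrank_le W) hfr)
  intro v
  have hv : v ∈ W := hW ▸ Submodule.mem_top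
  exact hv

end LinAlg

section ExtS
variable {C : Type u} [Category.{v} C] [Abelian C] [HasExt.{w} C]

open Abelian

/-- If `φ_*` is bijective on all `Ext^n(L, -)`, the `Ext^i(L, -)` of the cokernel vanish. -/
theorem subsingleton_ext_of_bijective (L : C) (S : ShortComplex C) (hS : S.ShortExact)
    (hbij : ∀ n, Function.Bijective (fun x : Ext L S.X₁ n => x.comp (Ext.mk₀ S.f) (add_zero n)))
    (i : ℕ) : Subsingleton (Ext L S.X₃ i) := by
  refine ⟨fun a b => ?_⟩
  suffices H : ∀ x₃ : Ext L S.X₃ i, x₃ = 0 by rw [H a, H b]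
  intro x₃
  have h1 : (x₃.comp hS.extClass rfl : Ext L S.X₁ (i + 1)) = 0 := by
    apply (hbij (i + 1)).1
    change (x₃.comp hS.extClass rfl).comp (Ext.mk₀ S.f) (add_zero (i + 1)) =
      (0 : Ext L S.X₁ (i + 1)).comp (Ext.mk₀ S.f) (add_zero (i + 1))
    rw [Ext.comp_assoc_of_third_deg_zero, hS.extClass_comp, Ext.comp_zero, Ext.zero_comp]
  obtain ⟨x₂, hx₂⟩ := Ext.covariant_sequence_exact₃ L hS x₃ rfl h1
  obtain ⟨x₁, hx₁⟩ := (hbij i).2 x₂
  rw [← hx₂, ← hx₁]
  change (x₁.comp (Ext.mk₀ S.f) (add_zero i)).comp (Ext.mk₀ S.g) (add_zero i) = 0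
  rw [Ext.comp_assoc_of_second_deg_zero, Ext.mk₀_comp_mk₀, S.zero, Ext.mk₀_zero, Ext.comp_zero]

end ExtS

end Groth.Agent.Lib.Helper2.FSplit
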