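import Groth.Agent.Lib.Helper2.FSplit.Basic
import Groth.Agent.S0002
import Groth.Agent.Lib.Helper12.Dev7

/-! # Frobenius split ⇒ vanishing of the cohomology of the cokernel of Frobenius -/

set_option autoImplicit false
universe u
open CategoryTheory CategoryTheory.Limits AlgebraicGeometry Opposite Abelian

namespace Groth.Agent.Lib.Helper2.FSplit

variable {X : Scheme.{u}}

theorem smulAb_comp_frob (p : ℕ)
    (φ : Coh.toAb (Coh.structureModule X) ⟶ Coh.toAb (Coh.structureModule X))
    (hφ : ∀ (U : X.Opens) (t : Γ(X, U)), φ.hom.app (op U) t = t ^ p) (r : Coh.Γtop X) :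
    Coh.smulAb (Coh.structureModule X) r ≫ φ =
      φ ≫ Coh.smulAb (Coh.structureModule X) (r ^ p) := by
  ext U m
  induction U using Opposite.rec with
  | op U =>
  change φ.hom.app (op U) ((Coh.smulAb (Coh.structureModule X) r).hom.app (op U) m) =
    (Coh.smulAb (Coh.structureModule X) (r ^ p)).hom.app (op U) (φ.hom.app (op U) m)
  rw [Coh.smulAb_app, Coh.smulAb_app]
  have h1 := hφ U m
  have h2 := hφ U ((show Γ(X, U) from Coh.resTop X (op U) r) * (show Γ(X, U) from m))
  rw [h1]
  refine h2.trans ?_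
  rw [mul_pow, map_pow]
  rfl


open Groth.Agent.Lib.Helper12.H12Dev in
theorem subsingleton_H_of_split (p : ℕ) [Fact p.Prime] (k : Type u) [Field k] [CharP k p]
    [PerfectField k] (X : Scheme.{u}) [X.Over (Spec (CommRingCat.of k))]
    [IsProper (X ↘ Spec (CommRingCat.of k))]
    (φ : Coh.toAb (Coh.structureModule X) ⟶ Coh.toAb (Coh.structureModule X))
    (hφ : ∀ (U : X.Opens) (t : Γ(X, U)), φ.hom.app (op U) t = t ^ p)
    (s : Coh.toAb (Coh.structureModule X) ⟶ Coh.toAb (Coh.structureModule X))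
    (hs : φ ≫ s = 𝟙 _)
    {Q : Sheaf (Opens.grothendieckTopology X) AddCommGrpCat.{u}}
    (π : Coh.toAb (Coh.structureModule X) ⟶ Q) (hπ : φ ≫ π = 0)
    (hS : (ShortComplex.mk φ π hπ).ShortExact) (i : ℕ) : Subsingleton (Sheaf.H Q i) := by
  haveI : ExpChar k p := ExpChar.prime Fact.out
  haveI : PerfectRing k p := PerfectField.toPerfectRing p
  refine subsingleton_ext_of_bijective _ (ShortComplex.mk φ π hπ) hS (fun n => ?_) i
  have hinj : Function.Injective (Sheaf.H.map φ n) := by
    intro a b hab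
    have := congrArg (Sheaf.H.map s n) hab
    rwa [← Sheaf.H.map_comp_apply, ← Sheaf.H.map_comp_apply, hs, Sheaf.H.map_id_apply,
      Sheaf.H.map_id_apply] at this
  haveI : Module.Finite k (Coh.HH X (Coh.structureModule X) n) :=
    Groth.Agent.S0002.result k X _ (isCoh_unitM X) n
  have hsurj := surjective_of_injective_semilinear (k := k)
    (V := Coh.HH X (Coh.structureModule X) n) (fun a => a ^ p) (surjective_frobenius k p)
    (Sheaf.H.map φ n) hinj (fun r v => ?_)
  · exact ⟨hinj, hsurj⟩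
  · change Sheaf.H.map φ n (Sheaf.H.map (Coh.smulAb _ (Coh.toGlobal _ r)) n v) =
      Sheaf.H.map (Coh.smulAb _ (Coh.toGlobal _ (r ^ p))) n (Sheaf.H.map φ n v)
    rw [← Sheaf.H.map_comp_apply, ← Sheaf.H.map_comp_apply, map_pow, smulAb_comp_frob p φ hφ]

end Groth.Agent.Lib.Helper2.FSplit
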